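import Mathlib

/-!
# S4832, EXT-3H: the arithmetic of the Hermitian parameters (helper855)

`q = r ^ f`, `Q = q ^ 2`, `M = (Q ^ k - 1) / (Q - 1)`.
-/

set_option autoImplicit false

namespace Cfsg.Agent.H855.Ext

/-- reduction of the exponents -/
theorem red_sub {M a r n t : ℕ} (hM : (M : ℤ) ∣ (r : ℤ) ^ n - 1) (htn : t ≤ n) (h : (M : ℤ) ∣ a * ((r : ℤ) ^ t - 1)) :
    (M : ℤ) ∣ a * ((r : ℤ) ^ (n - t) - 1) := by
  have e : (r : ℤ) ^ n = r ^ (n - t) * r ^ t := by rw [← pow_add]; congr 1; omega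
  have h1 : (a : ℤ) * ((r : ℤ) ^ (n - t) - 1) = a * (r ^ n - 1) - r ^ (n - t) * (a * (r ^ t - 1)) := by
    rw [e]; ring
  rw [h1]
  exact dvd_sub (hM.mul_left _) (h.mul_left _)

theorem red_add {M a r n t : ℕ} (hM : (M : ℤ) ∣ (r : ℤ) ^ n - 1) (htn : t ≤ n) (h : (M : ℤ) ∣ a * ((r : ℤ) ^ t + 1)) :
    (M : ℤ) ∣ a * ((r : ℤ) ^ (n - t) + 1) := by
  have e : (r : ℤ) ^ n = r ^ (n - t) * r ^ t := by rw [← pow_add]; congr 1; omega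
  have h1 : (a : ℤ) * ((r : ℤ) ^ (n - t) + 1) = r ^ (n - t) * (a * (r ^ t + 1)) - a * (r ^ n - 1) := by
    rw [e]; ring
  rw [h1]
  exact dvd_sub (h.mul_left _) (hM.mul_left _)

/-- cancel a power of `r` -/
theorem cancel_pow {M r n : ℕ} (hn : n ≠ 0) (hM : (M : ℤ) ∣ (r : ℤ) ^ n - 1) {t : ℕ} {x : ℤ} (h : (M : ℤ) ∣ r ^ t * x) :
    (M : ℤ) ∣ x := by
  have h1 : IsCoprime (M : ℤ) ((r : ℤ) ^ t) := by
    apply IsCoprime.pow_right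
    obtain ⟨c, hc⟩ := hM
    refine ⟨-c, (r : ℤ) ^ (n - 1), ?_⟩
    have e : (r : ℤ) ^ (n - 1) * r = r ^ n := by rw [← pow_succ]; congr 1; omega
    rw [e]
    linear_combination hc
  exact h1.dvd_of_dvd_mul_left h

section

variable {r f k q M : ℕ} (hq : q = r ^ f) (hr : 2 ≤ r) (hf : 0 < f)

include hq in
theorem dvd_pow (hM : (M : ℤ) * ((q : ℤ) ^ 2 - 1) = (q : ℤ) ^ (2 * k) - 1) : (M : ℤ) ∣ (r : ℤ) ^ (2 * f * k) - 1 := by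
  refine ⟨(q : ℤ) ^ 2 - 1, ?_⟩
  rw [hM, hq]
  push_cast
  rw [← pow_mul]
  congr 2
  ring

/-- the cubic case -/
theorem not_three (h3 : 3 ≤ q) (hM : (M : ℤ) = (q : ℤ) ^ 4 + (q : ℤ) ^ 2 + 1) :
    ¬ (M : ℤ) ∣ ((q : ℤ) + 1) * ((q : ℤ) ^ 3 - 1) ∧ ¬ (M : ℤ) ∣ ((q : ℤ) + 1) * ((q : ℤ) ^ 3 + 1) := by
  have h3' : (3 : ℤ) ≤ q := by exact_mod_cast h3
  constructor
  · intro h
    have h1 : (M : ℤ) ∣ (q : ℤ) ^ 3 - q ^ 2 - q - 2 := by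
      have e : (q : ℤ) ^ 3 - q ^ 2 - q - 2 = ((q : ℤ) + 1) * ((q : ℤ) ^ 3 - 1) - M := by rw [hM]; ring
      rw [e]
      exact dvd_sub h dvd_rfl
    have h2 : (0 : ℤ) < (q : ℤ) ^ 3 - q ^ 2 - q - 2 := by nlinarith [sq_nonneg ((q : ℤ) - 3), mul_pos (show (0 : ℤ) < q by linarith) (show (0 : ℤ) < q by linarith)]
    have h4 := Int.le_of_dvd h2 h1
    rw [hM] at h4
    nlinarith [pow_pos (show (0 : ℤ) < q by linarith) 3]
  · intro h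
    have h1 : (M : ℤ) ∣ (q : ℤ) ^ 3 - q ^ 2 + q := by
      have e : (q : ℤ) ^ 3 - q ^ 2 + q = ((q : ℤ) + 1) * ((q : ℤ) ^ 3 + 1) - M := by rw [hM]; ring
      rw [e]
      exact dvd_sub h dvd_rfl
    have h2 : (0 : ℤ) < (q : ℤ) ^ 3 - q ^ 2 + q := by nlinarith [sq_nonneg ((q : ℤ) - 3), mul_pos (show (0 : ℤ) < q by linarith) (show (0 : ℤ) < q by linarith)]
    have h4 := Int.le_of_dvd h2 h1
    rw [hM] at h4
    nlinarith [pow_pos (show (0 : ℤ) < q by linarith) 3]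

include hq hr hf in
/-- the bound, `t ≤ f k`, except for `k = 3`, `t = 3 f` -/
theorem bound (h3 : 3 ≤ q) (hk : 3 ≤ k) (hM : (M : ℤ) * ((q : ℤ) ^ 2 - 1) = (q : ℤ) ^ (2 * k) - 1) {t : ℕ}
    (ht : t ≤ f * k) (hne : ¬ (k = 3 ∧ t = f * k)) : ((q : ℤ) + 1) * ((r : ℤ) ^ t + 1) < M := by
  have h3' : (3 : ℤ) ≤ q := by exact_mod_cast h3
  have hr' : (2 : ℤ) ≤ r := by exact_mod_cast hr
  have hpos : (0 : ℤ) < (q : ℤ) ^ 2 - 1 := by nlinarith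
  rcases Nat.lt_or_ge k 4 with hk4 | hk4
  · have hk3 : k = 3 := by omega
    subst hk3
    have hM3 : (M : ℤ) = (q : ℤ) ^ 4 + (q : ℤ) ^ 2 + 1 := by
      have h1 : ((q : ℤ) ^ 4 + (q : ℤ) ^ 2 + 1) * ((q : ℤ) ^ 2 - 1) = (q : ℤ) ^ (2 * 3) - 1 := by ring
      rw [← h1] at hM
      exact mul_right_cancel₀ hpos.ne' hM
    have ht3 : t + 1 ≤ f * 3 := by
      rcases Nat.lt_or_ge t (f * 3) with h | h
      · omega
      · exact absurd ⟨rfl, le_antisymm ht h⟩ hne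
    have h1 : (2 : ℤ) * r ^ t ≤ (q : ℤ) ^ 3 := by
      have h4 : (q : ℤ) ^ 3 = (r : ℤ) ^ (f * 3) := by rw [hq]; push_cast; rw [← pow_mul]
      rw [h4]
      calc (2 : ℤ) * r ^ t ≤ r * r ^ t := mul_le_mul_of_nonneg_right hr' (by positivity)
        _ = (r : ℤ) ^ (t + 1) := by rw [pow_succ]; ring
        _ ≤ (r : ℤ) ^ (f * 3) := pow_le_pow_right₀ (by linarith) ht3
    rw [hM3]
    nlinarith [pow_pos (show (0 : ℤ) < q by linarith) 3, pow_pos (show (0 : ℤ) < q by linarith) 2]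
  · have h1 : (r : ℤ) ^ t ≤ (q : ℤ) ^ k := by
      have h4 : (q : ℤ) ^ k = (r : ℤ) ^ (f * k) := by rw [hq]; push_cast; rw [← pow_mul]
      rw [h4]
      exact pow_le_pow_right₀ (by linarith) ht
    -- `M > q ^ (2 k - 2)`
    have h2 : (q : ℤ) ^ (2 * k - 2) < M := by
      by_contra hcon
      push Not at hcon
      have h5 : (M : ℤ) * ((q : ℤ) ^ 2 - 1) ≤ (q : ℤ) ^ (2 * k - 2) * ((q : ℤ) ^ 2 - 1) :=
        mul_le_mul_of_nonneg_right hcon hpos.le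
      rw [hM] at h5
      have h6 : (q : ℤ) ^ (2 * k - 2) * (q : ℤ) ^ 2 = (q : ℤ) ^ (2 * k) := by rw [← pow_add]; congr 1; omega
      have h7 : (1 : ℤ) < (q : ℤ) ^ (2 * k - 2) := one_lt_pow₀ (by linarith) (by omega)
      nlinarith
    have h4 : (q : ℤ) ^ 2 * (q : ℤ) ^ k ≤ (q : ℤ) ^ (2 * k - 2) := by
      rw [← pow_add]
      exact pow_le_pow_right₀ (by linarith) (by omega)
    have h5 : (9 : ℤ) ≤ (q : ℤ) ^ k := by
      calc (9 : ℤ) = 3 ^ 2 := by norm_num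
        _ ≤ (q : ℤ) ^ 2 := pow_le_pow_left₀ (by norm_num) h3' 2
        _ ≤ (q : ℤ) ^ k := pow_le_pow_right₀ (by linarith) (by omega)
    have h6 : ((q : ℤ) + 1) * ((r : ℤ) ^ t + 1) ≤ ((q : ℤ) + 1) * ((q : ℤ) ^ k + 1) :=
      mul_le_mul_of_nonneg_left (by linarith) (by linarith)
    have h8 : (0 : ℤ) ≤ (q : ℤ) ^ 2 - q - 1 := by nlinarith
    have h7 : ((q : ℤ) + 1) * ((q : ℤ) ^ k + 1) ≤ (q : ℤ) ^ 2 * (q : ℤ) ^ k := by
      nlinarith [mul_nonneg (show (0 : ℤ) ≤ (q : ℤ) ^ k - 9 by linarith) h8]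
    linarith

include hq hr hf in
/-- **`k ≥ 3`** -/
theorem numA (h3 : 3 ≤ q) (hk : 3 ≤ k) (hM : (M : ℤ) * ((q : ℤ) ^ 2 - 1) = (q : ℤ) ^ (2 * k) - 1) {t : ℕ}
    (ht0 : 0 < t) (ht : t < 2 * f * k) : ¬ (M : ℤ) ∣ ((q + 1 : ℕ) : ℤ) * ((r : ℤ) ^ t - 1) := by
  have key : ∀ t : ℕ, 0 < t → t ≤ f * k → ¬ (M : ℤ) ∣ ((q + 1 : ℕ) : ℤ) * ((r : ℤ) ^ t - 1) := by
    intro t ht0 ht h
    have hr' : (2 : ℤ) ≤ r := by exact_mod_cast hr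
    have h1 : (1 : ℤ) < (r : ℤ) ^ t := one_lt_pow₀ (by linarith) ht0.ne'
    by_cases hne : k = 3 ∧ t = f * k
    · obtain ⟨rfl, rfl⟩ := hne
      have h3' : (3 : ℤ) ≤ q := by exact_mod_cast h3
      have hpos : (0 : ℤ) < (q : ℤ) ^ 2 - 1 := by nlinarith
      have hM3 : (M : ℤ) = (q : ℤ) ^ 4 + (q : ℤ) ^ 2 + 1 := by
        have h1 : ((q : ℤ) ^ 4 + (q : ℤ) ^ 2 + 1) * ((q : ℤ) ^ 2 - 1) = (q : ℤ) ^ (2 * 3) - 1 := by ring
        rw [← h1] at hM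
        exact mul_right_cancel₀ hpos.ne' hM
      refine (not_three h3 hM3).1 ?_
      have h4 : (q : ℤ) ^ 3 = (r : ℤ) ^ (f * 3) := by rw [hq]; push_cast; rw [← pow_mul]
      rw [h4]
      push_cast at h
      exact h
    · have h2 := bound hq hr hf h3 hk hM ht hne
      push_cast at h
      have h4 := Int.le_of_dvd (by
        have : (0 : ℤ) < (q : ℤ) + 1 := by positivity
        exact mul_pos this (by linarith)) h
      have : (0 : ℤ) < (q : ℤ) + 1 := by positivity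
      nlinarith
  intro h
  rcases Nat.lt_or_ge (f * k) t with h1 | h1
  · refine key (2 * f * k - t) (by omega) ?_ (red_sub (dvd_pow hq hM) ht.le h)
    have : 2 * f * k = f * k + f * k := by ring
    omega
  · exact key t ht0 h1 h

include hq hr hf in
theorem numB (h3 : 3 ≤ q) (hk : 3 ≤ k) (hM : (M : ℤ) * ((q : ℤ) ^ 2 - 1) = (q : ℤ) ^ (2 * k) - 1) {t : ℕ}
    (ht : t ≤ 2 * f * k) : ¬ (M : ℤ) ∣ ((q + 1 : ℕ) : ℤ) * ((r : ℤ) ^ t + 1) := by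
  have key : ∀ t : ℕ, t ≤ f * k → ¬ (M : ℤ) ∣ ((q + 1 : ℕ) : ℤ) * ((r : ℤ) ^ t + 1) := by
    intro t ht h
    have hr' : (2 : ℤ) ≤ r := by exact_mod_cast hr
    by_cases hne : k = 3 ∧ t = f * k
    · obtain ⟨rfl, rfl⟩ := hne
      have h3' : (3 : ℤ) ≤ q := by exact_mod_cast h3
      have hpos : (0 : ℤ) < (q : ℤ) ^ 2 - 1 := by nlinarith
      have hM3 : (M : ℤ) = (q : ℤ) ^ 4 + (q : ℤ) ^ 2 + 1 := by
        have h1 : ((q : ℤ) ^ 4 + (q : ℤ) ^ 2 + 1) * ((q : ℤ) ^ 2 - 1) = (q : ℤ) ^ (2 * 3) - 1 := by ring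
        rw [← h1] at hM
        exact mul_right_cancel₀ hpos.ne' hM
      refine (not_three h3 hM3).2 ?_
      have h4 : (q : ℤ) ^ 3 = (r : ℤ) ^ (f * 3) := by rw [hq]; push_cast; rw [← pow_mul]
      rw [h4]
      push_cast at h
      exact h
    · have h2 := bound hq hr hf h3 hk hM ht hne
      push_cast at h
      have h4 := Int.le_of_dvd (by positivity) h
      linarith
  intro h
  rcases Nat.lt_or_ge (f * k) t with h1 | h1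
  · refine key (2 * f * k - t) ?_ (red_add (dvd_pow hq hM) ht h)
    have : 2 * f * k = f * k + f * k := by ring
    omega
  · exact key t h1 h

include hq in
theorem Q_pow (i : ℕ) : ((q ^ 2 : ℕ) : ℤ) ^ i = (r : ℤ) ^ (2 * f * i) := by
  rw [hq]; push_cast; rw [← pow_mul, ← pow_mul]; congr 1; ring

include hq hr hf in
/-- the field automorphisms, and `DIrr` for `j = 0`, `0 < i` -/
theorem gen (h3 : 3 ≤ q) (hk : 3 ≤ k) (hM : (M : ℤ) * ((q : ℤ) ^ 2 - 1) = (q : ℤ) ^ (2 * k) - 1) {i j : ℕ} (hi : i < k)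
    (hj : j < 2 * f) (hij : 0 < i ∨ 0 < j) :
    ¬ (M : ℤ) ∣ ((q + 1 : ℕ) : ℤ) * (((q ^ 2 : ℕ) : ℤ) ^ i) - ((q + 1 : ℕ) : ℤ) * (r : ℤ) ^ j := by
  intro h
  have hd := dvd_pow hq hM
  have hn : 2 * f * k ≠ 0 := by positivity
  rw [Q_pow hq, ← mul_sub] at h
  rcases Nat.lt_or_ge (2 * f * i) j with h1 | h1
  · -- `i = 0`
    have hi0 : i = 0 := by
      by_contra hi0
      have : 2 * f * 1 ≤ 2 * f * i := Nat.mul_le_mul_left _ (by omega)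
      omega
    subst hi0
    rw [mul_zero, pow_zero] at h
    refine numA hq hr hf h3 hk hM (t := j) (by omega) ?_ ?_
    · have : 2 * f * 1 ≤ 2 * f * k := Nat.mul_le_mul_left _ (by omega)
      omega
    · have e : ((q + 1 : ℕ) : ℤ) * ((r : ℤ) ^ j - 1) = -(((q + 1 : ℕ) : ℤ) * (1 - (r : ℤ) ^ j)) := by ring
      rw [e]
      exact (dvd_neg).2 h
  · have hne : 2 * f * i ≠ j := by
      intro he
      rcases Nat.eq_zero_or_pos i with hi0 | hi0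
      · subst hi0; omega
      · have : 2 * f * 1 ≤ 2 * f * i := Nat.mul_le_mul_left _ hi0
        omega
    refine numA hq hr hf h3 hk hM (t := 2 * f * i - j) (by omega) ?_ ?_
    · have : 2 * f * i < 2 * f * k := Nat.mul_lt_mul_of_pos_left hi (by omega)
      omega
    · refine cancel_pow hn hd (t := j) ?_
      have e : (r : ℤ) ^ j * (((q + 1 : ℕ) : ℤ) * ((r : ℤ) ^ (2 * f * i - j) - 1)) =
          ((q + 1 : ℕ) : ℤ) * ((r : ℤ) ^ (2 * f * i) - (r : ℤ) ^ j) := by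
        have e1 : (r : ℤ) ^ (2 * f * i) = r ^ j * r ^ (2 * f * i - j) := by rw [← pow_add]; congr 1; omega
        rw [e1]; ring
      rw [e]
      exact h

include hq hr hf in
theorem opp (h3 : 3 ≤ q) (hk : 3 ≤ k) (hM : (M : ℤ) * ((q : ℤ) ^ 2 - 1) = (q : ℤ) ^ (2 * k) - 1) {i j : ℕ} (hi : i < k)
    (hj : j < 2 * f) :
    ¬ (M : ℤ) ∣ ((q + 1 : ℕ) : ℤ) * (((q ^ 2 : ℕ) : ℤ) ^ i) + ((q + 1 : ℕ) : ℤ) * (q * (r : ℤ) ^ j) := by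
  intro h
  have hd := dvd_pow hq hM
  have hn : 2 * f * k ≠ 0 := by positivity
  have hk3 : 2 * f * 3 ≤ 2 * f * k := Nat.mul_le_mul_left _ hk
  have hqz : (q : ℤ) * (r : ℤ) ^ j = (r : ℤ) ^ (f + j) := by rw [pow_add]; rw [hq]; push_cast; rfl
  rw [Q_pow hq, hqz, ← mul_add] at h
  rcases Nat.lt_or_ge (2 * f * i) (f + j) with h1 | h1
  · refine numB hq hr hf h3 hk hM (t := f + j - 2 * f * i) (by omega) ?_
    refine cancel_pow hn hd (t := 2 * f * i) ?_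
    have e : (r : ℤ) ^ (2 * f * i) * (((q + 1 : ℕ) : ℤ) * ((r : ℤ) ^ (f + j - 2 * f * i) + 1)) =
        ((q + 1 : ℕ) : ℤ) * ((r : ℤ) ^ (2 * f * i) + (r : ℤ) ^ (f + j)) := by
      have e1 : (r : ℤ) ^ (f + j) = r ^ (2 * f * i) * r ^ (f + j - 2 * f * i) := by rw [← pow_add]; congr 1; omega
      rw [e1]; ring
    rw [e]
    exact h
  · have h2 : 2 * f * i < 2 * f * k := Nat.mul_lt_mul_of_pos_left hi (by omega)
    refine numB hq hr hf h3 hk hM (t := 2 * f * i - (f + j)) (by omega) ?_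
    refine cancel_pow hn hd (t := f + j) ?_
    have e : (r : ℤ) ^ (f + j) * (((q + 1 : ℕ) : ℤ) * ((r : ℤ) ^ (2 * f * i - (f + j)) + 1)) =
        ((q + 1 : ℕ) : ℤ) * ((r : ℤ) ^ (2 * f * i) + (r : ℤ) ^ (f + j)) := by
      have e1 : (r : ℤ) ^ (2 * f * i) = r ^ (f + j) * r ^ (2 * f * i - (f + j)) := by rw [← pow_add]; congr 1; omega
      rw [e1]; ring
    rw [e]
    exact h

/-! ### `k = 2` -/

include hq hr hf in
theorem two_bound (h4 : 4 ≤ q) {t : ℕ} (ht : t < 2 * f) {x : ℤ} (hx : x = (r : ℤ) ^ t - 1 ∨ x = (r : ℤ) ^ t + 1)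
    (hx0 : x ≠ 0) : ¬ ((q : ℤ) ^ 2 + 1) ∣ ((q + 1 : ℕ) : ℤ) * x := by
  intro h
  have hr' : (2 : ℤ) ≤ r := by exact_mod_cast hr
  have h4' : (4 : ℤ) ≤ q := by exact_mod_cast h4
  have hrt : (1 : ℤ) ≤ (r : ℤ) ^ t := one_le_pow₀ (by linarith)
  have hxpos : 0 < x := by
    rcases hx with hx | hx
    · rcases lt_or_eq_of_le hrt with h1 | h1
      · rw [hx]; linarith
      · rw [← h1] at hx; rw [hx] at hx0; exact absurd rfl hx0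
    · rw [hx]; linarith
  have hxle : x ≤ (r : ℤ) ^ t + 1 := by rcases hx with hx | hx <;> rw [hx] <;> linarith
  push_cast at h
  have h1 : ((q : ℤ) ^ 2 + 1) ∣ 2 * x := by
    have e : 2 * x = ((q : ℤ) ^ 2 + 1) * x - ((q : ℤ) - 1) * (((q : ℤ) + 1) * x) := by ring
    rw [e]
    exact dvd_sub (dvd_mul_right _ _) (h.mul_left _)
  have hq2 : (q : ℤ) ^ 2 = (r : ℤ) ^ (2 * f) := by rw [hq]; push_cast; rw [← pow_mul, mul_comm]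
  have hle : (r : ℤ) * r ^ t ≤ (q : ℤ) ^ 2 := by
    rw [hq2, mul_comm, ← pow_succ]
    exact pow_le_pow_right₀ (by linarith) (by omega)
  rcases Nat.even_or_odd q with he | ho
  · have h2 : IsCoprime ((q : ℤ) ^ 2 + 1) 2 := by
      obtain ⟨c, hc⟩ := he
      refine ⟨1, -(2 * (c : ℤ) ^ 2), ?_⟩
      rw [hc]; push_cast; ring
    have h3 := h2.dvd_of_dvd_mul_left h1
    have h5 := Int.le_of_dvd hxpos h3
    nlinarith
  · have hr3 : (3 : ℤ) ≤ r := by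
      have h5 : r ≠ 2 := by
        rintro rfl
        have h6 : Even q := by rw [hq]; exact (Nat.even_pow.2 ⟨even_two, hf.ne'⟩)
        exact (Nat.not_even_iff_odd.2 ho) h6
      exact_mod_cast (show 3 ≤ r by omega)
    have h5 := Int.le_of_dvd (by linarith) h1
    nlinarith

include hq hr hf in
theorem gen_two (h4 : 4 ≤ q) {i j : ℕ} (hi : i < 2) (hj : j < 2 * f) (hj0 : 0 < j) :
    ¬ ((q : ℤ) ^ 2 + 1) ∣ ((q + 1 : ℕ) : ℤ) * (((q ^ 2 : ℕ) : ℤ) ^ i) - ((q + 1 : ℕ) : ℤ) * (r : ℤ) ^ j := by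
  intro h
  have hr' : (2 : ℤ) ≤ r := by exact_mod_cast hr
  have h1 : i = 0 ∨ i = 1 := by omega
  rcases h1 with rfl | rfl
  · refine two_bound hq hr hf h4 hj (Or.inl rfl) ?_ ?_
    · have : (1 : ℤ) < (r : ℤ) ^ j := one_lt_pow₀ (by linarith) hj0.ne'
      linarith
    · have e : ((q + 1 : ℕ) : ℤ) * ((r : ℤ) ^ j - 1) =
        -(((q + 1 : ℕ) : ℤ) * (((q ^ 2 : ℕ) : ℤ) ^ 0) - ((q + 1 : ℕ) : ℤ) * (r : ℤ) ^ j) := by ring
      rw [e]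
      exact (dvd_neg).2 h
  · -- `q² ≡ -1`
    refine two_bound hq hr hf h4 hj (Or.inr rfl) ?_ ?_
    · have : (1 : ℤ) ≤ (r : ℤ) ^ j := one_le_pow₀ (by linarith)
      linarith
    · have e : ((q + 1 : ℕ) : ℤ) * ((r : ℤ) ^ j + 1) = ((q + 1 : ℕ) : ℤ) * ((q : ℤ) ^ 2 + 1) -
        (((q + 1 : ℕ) : ℤ) * (((q ^ 2 : ℕ) : ℤ) ^ 1) - ((q + 1 : ℕ) : ℤ) * (r : ℤ) ^ j) := by push_cast; ring
      rw [e]
      exact dvd_sub (dvd_mul_left _ _) h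

theorem self_two (h4 : 4 ≤ q) :
    ¬ ((q : ℤ) ^ 2 + 1) ∣ ((q + 1 : ℕ) : ℤ) * (((q ^ 2 : ℕ) : ℤ) ^ 1) - ((q + 1 : ℕ) : ℤ) * (r : ℤ) ^ 0 := by
  intro h
  have h4' : (4 : ℤ) ≤ q := by exact_mod_cast h4
  have h1 : ((q : ℤ) ^ 2 + 1) ∣ 2 * ((q : ℤ) + 1) := by
    have e : 2 * ((q : ℤ) + 1) = ((q : ℤ) + 1) * ((q : ℤ) ^ 2 + 1) -
      (((q + 1 : ℕ) : ℤ) * (((q ^ 2 : ℕ) : ℤ) ^ 1) - ((q + 1 : ℕ) : ℤ) * (r : ℤ) ^ 0) := by push_cast; ring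
    rw [e]
    exact dvd_sub (dvd_mul_left _ _) h
  have h5 := Int.le_of_dvd (by linarith) h1
  nlinarith

include hq hr hf in
/-- `j ≠ f` -/
theorem opp_two (h4 : 4 ≤ q) {i j : ℕ} (hi : i < 2) (hj : j < 2 * f) (hjf : j ≠ f) :
    ¬ ((q : ℤ) ^ 2 + 1) ∣ ((q + 1 : ℕ) : ℤ) * (((q ^ 2 : ℕ) : ℤ) ^ i) + ((q + 1 : ℕ) : ℤ) * (q * (r : ℤ) ^ j) := by
  intro h
  have hr' : (2 : ℤ) ≤ r := by exact_mod_cast hr
  have hqz : (q : ℤ) * (r : ℤ) ^ j = (r : ℤ) ^ (f + j) := by rw [pow_add]; rw [hq]; push_cast; rfl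
  have hq2 : (q : ℤ) ^ 2 = (r : ℤ) ^ (2 * f) := by rw [hq]; push_cast; rw [← pow_mul, mul_comm]
  rw [hqz] at h
  have h1 : i = 0 ∨ i = 1 := by omega
  have hneg : ∀ t : ℕ, t < 2 * f → 0 < t → ((q : ℤ) ^ 2 + 1) ∣ ((q + 1 : ℕ) : ℤ) * ((r : ℤ) ^ t - 1) → False :=
    fun t ht ht0 hd => two_bound hq hr hf h4 ht (Or.inl rfl) (by
      have : (1 : ℤ) < (r : ℤ) ^ t := one_lt_pow₀ (by linarith) ht0.ne'
      linarith) hd
  have hplus : ∀ t : ℕ, t < 2 * f → ((q : ℤ) ^ 2 + 1) ∣ ((q + 1 : ℕ) : ℤ) * ((r : ℤ) ^ t + 1) → False :=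
    fun t ht hd => two_bound hq hr hf h4 ht (Or.inr rfl) (by
      have : (1 : ℤ) ≤ (r : ℤ) ^ t := one_le_pow₀ (by linarith)
      linarith) hd
  rcases Nat.lt_or_ge j f with h5 | h5
  · -- `f + j < 2 f`
    rcases h1 with rfl | rfl
    · refine hplus (f + j) (by omega) ?_
      have e : ((q + 1 : ℕ) : ℤ) * ((r : ℤ) ^ (f + j) + 1) =
        ((q + 1 : ℕ) : ℤ) * (((q ^ 2 : ℕ) : ℤ) ^ 0) + ((q + 1 : ℕ) : ℤ) * (r : ℤ) ^ (f + j) := by ring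
      rw [e]; exact h
    · refine hneg (f + j) (by omega) (by omega) ?_
      have e : ((q + 1 : ℕ) : ℤ) * ((r : ℤ) ^ (f + j) - 1) =
        ((q + 1 : ℕ) : ℤ) * (((q ^ 2 : ℕ) : ℤ) ^ 1) + ((q + 1 : ℕ) : ℤ) * (r : ℤ) ^ (f + j) -
          ((q + 1 : ℕ) : ℤ) * ((q : ℤ) ^ 2 + 1) := by push_cast; ring
      rw [e]; exact dvd_sub h (dvd_mul_left _ _)
  · -- `f + j = 2 f + s`, `0 < s < f`
    obtain ⟨s, hs⟩ : ∃ s, j = f + s := ⟨j - f, by omega⟩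
    have e2 : (r : ℤ) ^ (f + j) = (q : ℤ) ^ 2 * (r : ℤ) ^ s := by
      rw [hq2, ← pow_add]; congr 1; omega
    rw [e2] at h
    rcases h1 with rfl | rfl
    · refine hneg s (by omega) (by omega) ?_
      have e : ((q + 1 : ℕ) : ℤ) * ((r : ℤ) ^ s - 1) = ((q + 1 : ℕ) : ℤ) * (r : ℤ) ^ s * ((q : ℤ) ^ 2 + 1) -
        (((q + 1 : ℕ) : ℤ) * (((q ^ 2 : ℕ) : ℤ) ^ 0) + ((q + 1 : ℕ) : ℤ) * ((q : ℤ) ^ 2 * (r : ℤ) ^ s)) := by ring
      rw [e]; exact dvd_sub (dvd_mul_left _ _) h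
    · refine hplus s (by omega) ?_
      have e : ((q + 1 : ℕ) : ℤ) * ((r : ℤ) ^ s + 1) =
        (((q + 1 : ℕ) : ℤ) * (r : ℤ) ^ s + ((q + 1 : ℕ) : ℤ)) * ((q : ℤ) ^ 2 + 1) -
        (((q + 1 : ℕ) : ℤ) * (((q ^ 2 : ℕ) : ℤ) ^ 1) + ((q + 1 : ℕ) : ℤ) * ((q : ℤ) ^ 2 * (r : ℤ) ^ s)) := by
        push_cast; ring
      rw [e]; exact dvd_sub (dvd_mul_left _ _) h

/-- `j = f`, with the determinants in the subfield -/
theorem opp_two_f (h4 : 4 ≤ q) {i : ℕ} (hi : i < 2) :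
    ¬ ((q : ℤ) - 1) * ((q : ℤ) ^ 2 + 1) ∣ ((q + 1 : ℕ) : ℤ) * (((q ^ 2 : ℕ) : ℤ) ^ i) + ((q + 1 : ℕ) : ℤ) * (q * (q : ℤ)) := by
  intro h
  have h4' : (4 : ℤ) ≤ q := by exact_mod_cast h4
  have h1 : i = 0 ∨ i = 1 := by omega
  rcases h1 with rfl | rfl
  · have e : ((q + 1 : ℕ) : ℤ) * (((q ^ 2 : ℕ) : ℤ) ^ 0) + ((q + 1 : ℕ) : ℤ) * (q * (q : ℤ)) =
      ((q : ℤ) + 1) * ((q : ℤ) ^ 2 + 1) := by push_cast; ring
    rw [e] at h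
    have h2 : ((q : ℤ) - 1) ∣ (q : ℤ) + 1 := Int.dvd_of_mul_dvd_mul_right (by positivity) h
    have h3 : ((q : ℤ) - 1) ∣ 2 := by
      have e : (2 : ℤ) = ((q : ℤ) + 1) - ((q : ℤ) - 1) := by ring
      rw [e]; exact dvd_sub h2 dvd_rfl
    have := Int.le_of_dvd (by norm_num) h3
    linarith
  · have h2 : ((q : ℤ) ^ 2 + 1) ∣ ((q + 1 : ℕ) : ℤ) * (((q ^ 2 : ℕ) : ℤ) ^ 1) + ((q + 1 : ℕ) : ℤ) * (q * (q : ℤ)) :=
      (dvd_mul_left _ _).trans h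
    have h3 : ((q : ℤ) ^ 2 + 1) ∣ 2 * ((q : ℤ) + 1) := by
      have e : 2 * ((q : ℤ) + 1) = 2 * ((q : ℤ) + 1) * ((q : ℤ) ^ 2 + 1) -
        (((q + 1 : ℕ) : ℤ) * (((q ^ 2 : ℕ) : ℤ) ^ 1) + ((q + 1 : ℕ) : ℤ) * (q * (q : ℤ))) := by push_cast; ring
      rw [e]; exact dvd_sub (dvd_mul_left _ _) h2
    have h5 := Int.le_of_dvd (by linarith) h3
    nlinarith

end

end Cfsg.Agent.H855.Ext
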