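import Mathlib
import Cfsg.Agent.H576.Ext.HcDefs
import Cfsg.Agent.H53.HC.Gal
import Cfsg.Agent.H699.CusGBase
import Cfsg.Agent.H855.Ext.Num

/-!
# S4832, EXT-3H: Hermitian parameters (helper855)
-/

set_option autoImplicit false
set_option linter.unusedSectionVars false

open scoped ComplexConjugate
open Cfsg

namespace Cfsg.Agent.H855.Ext

open Cfsg.Agent.H477.HC Cfsg.Agent.H53.HC Cfsg.Agent.Characters Module Cfsg.Agent.H139.Cusp Cfsg.Agent.H576.Ext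
open Cfsg.Agent.H53.HC.Gal

universe u

section base

variable {K : Type u} [Field K] [Finite K] {L : Type} [Field L] [Finite L] [Algebra K L] {k : ℕ}

theorem dorth (hL : Module.finrank K L = k) (D : Subgroup Kˣ) (θ θ' : L →*₀ ℂ)
    (h : ∀ i < k, ∃ x : Lˣ, Units.map (Algebra.norm K : L →* K) x ∈ D ∧ θ' x ≠ θ ((x : L) ^ Nat.card K ^ i)) :
    DOrth D (psi (n := k) (F := K) L θ) (psi L θ') :=
  H699.CusG.dorth_psi hL D θ θ' fun i hi hall => by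
    obtain ⟨x, hx, hne⟩ := h i hi
    exact hne (hall x ⟨_, hx, rfl⟩)

theorem dirr (hL : Module.finrank K L = k) (hk : 0 < k) (D : Subgroup Kˣ) (θ : L →*₀ ℂ)
    (hirr : IsIrrCharacter _ (psi (n := k) (F := K) L θ))
    (h : ∀ i < k, 0 < i → ∃ x : Lˣ, Units.map (Algebra.norm K : L →* K) x ∈ D ∧ θ x ≠ θ ((x : L) ^ Nat.card K ^ i)) :
    DIrr D (psi (n := k) (F := K) L θ) :=
  H699.CusG.dirr_psi hL hk D θ hirr fun i hi0 hi hall => by
    obtain ⟨x, hx, hne⟩ := h i hi hi0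
    exact hne (hall x ⟨_, hx, rfl⟩)

end base

section psi

variable {K : Type u} [Field K] [Finite K] {L : Type} [Field L] [Finite L] [Algebra K L] {k : ℕ}

theorem fmap_psi (hL : Module.finrank K L = k) {p : ℕ} [Fact p.Prime] [CharP K p] (τ : K →+* K) {j : ℕ}
    (hτ : ∀ x, τ x = x ^ p ^ j) (θ θ' : L →*₀ ℂ) (hθ : ∀ x, θ' x = θ (x ^ p ^ j)) :
    fmap τ (psi (n := k) (F := K) L θ) = psi L θ' := by
  have hbij : Function.Bijective τ := Finite.injective_iff_bijective.1 τ.injective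
  let τ' : K ≃+* K := RingEquiv.ofBijective τ hbij
  have hτ' : ∀ x, τ' x = x ^ p ^ j := hτ
  obtain ⟨σ, hσ, hστ⟩ := exists_ext (L := L) hτ'
  funext A
  have h1 := cuspMat_semilinear hL hστ (θ := θ') (θ' := θ) (fun x => by rw [hσ, hθ]) (A : Matrix (Fin k) (Fin k) K)
  exact h1

theorem dualc_psi (hL : Module.finrank K L = k) {p : ℕ} [Fact p.Prime] [CharP K p] (τ : K →+* K) {j : ℕ}
    (hτ : ∀ x, τ x = x ^ p ^ j) (θ θ' : L →*₀ ℂ) (hθ : ∀ x, θ' x = θ (x ^ p ^ j)) :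
    dualc τ (psi (n := k) (F := K) L θ) = psi L (conjTheta θ') := by
  funext A
  have h1 := congrFun (fmap_psi hL τ hτ θ θ' hθ) (invT k A)
  have h2 : dualc τ (psi (n := k) (F := K) L θ) A = fmap τ (psi (n := k) (F := K) L θ) (invT k A) := rfl
  rw [h2, h1, psi_invT θ' hL A]
  exact cusp_star L θ' _

theorem pow_ne {φ : L →*₀ ℂ} (hφ : Function.Injective φ) (x : Lˣ) {a b s : ℕ} (ha : a ≠ 0) (hb : b ≠ 0)
    (h : ¬ ((orderOf x : ℕ) : ℤ) ∣ (a : ℤ) * s - b) : powTheta φ b hb x ≠ powTheta φ a ha ((x : L) ^ s) := by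
  intro e
  apply h
  rw [powTheta_apply, powTheta_apply, ← map_pow, ← map_pow, ← pow_mul] at e
  have h1 : x ^ b = x ^ (s * a) := Units.ext (by push_cast; exact hφ e)
  have h2 := (pow_eq_pow_iff_modEq.1 h1)
  have h3 := (Nat.modEq_iff_dvd.1 h2)
  rw [mul_comm (a : ℤ)]
  exact_mod_cast h3

theorem conj_ne {φ : L →*₀ ℂ} (hφ : Function.Injective φ) (x : Lˣ) {a b s : ℕ} (ha : a ≠ 0) (hb : b ≠ 0)
    (h : ¬ ((orderOf x : ℕ) : ℤ) ∣ (a : ℤ) * s + b) :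
    conjTheta (powTheta φ b hb) x ≠ powTheta φ a ha ((x : L) ^ s) := by
  intro e
  apply h
  rw [conjTheta_apply, conj_theta_eq, powTheta_apply, powTheta_apply, ← map_pow, ← map_pow, ← pow_mul] at e
  have h0 := hφ e
  have h1 : x⁻¹ ^ b = x ^ (s * a) := Units.ext (by push_cast; exact h0)
  have h2 : x ^ (a * s + b) = 1 := by
    rw [pow_add, mul_comm a s, ← h1, inv_pow, inv_mul_cancel]
  exact_mod_cast orderOf_dvd_of_pow_eq_one h2

/-- an element of order `N` which is a `d`-th power -/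
theorem exists_elt (hL : Module.finrank K L = k) {N d : ℕ} (h : N * d = Nat.card K ^ k - 1) (hd : d ≠ 0) :
    ∃ x g : Lˣ, orderOf x = N ∧ x = g ^ d := by
  have hcardL : Nat.card Lˣ = Nat.card K ^ k - 1 := by
    rw [Nat.card_units, Module.natCard_eq_pow_finrank (K := K), hL]
  obtain ⟨g, hg⟩ := IsCyclic.exists_ofOrder_eq_natCard (α := Lˣ)
  refine ⟨g ^ d, g, ?_, rfl⟩
  rw [orderOf_pow_of_dvd hd (by rw [hg, hcardL, ← h]; exact dvd_mul_left _ _), hg, hcardL, ← h,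
    Nat.mul_div_cancel _ (Nat.pos_of_ne_zero hd)]

theorem exists_norm_one (hL : Module.finrank K L = k) (hk : 0 < k) (D : Subgroup Kˣ) {M : ℕ}
    (hM : M * (Nat.card K - 1) = Nat.card K ^ k - 1) :
    ∃ x : Lˣ, orderOf x = M ∧ Units.map (Algebra.norm K : L →* K) x ∈ D := by
  have h2 : 2 ≤ Nat.card K := Finite.one_lt_card
  have h3 : 1 < Nat.card K ^ k := Nat.one_lt_pow hk.ne' (by omega)
  obtain ⟨x, g, hx, rfl⟩ := exists_elt hL hM (by omega)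
  refine ⟨_, hx, ?_⟩
  rw [map_pow, ← Nat.card_units, pow_card_eq_one']
  exact one_mem D

end psi

section herm

variable {K : Type u} [Field K] [Finite K] {q : ℕ}

theorem exists_rf (hq : Nat.card K = q ^ 2) : ∃ r f : ℕ, r.Prime ∧ CharP K r ∧ q = r ^ f ∧ 0 < f := by
  obtain ⟨r, hr⟩ := CharP.exists K
  have hpr : r.Prime := (CharP.char_is_prime_or_zero K r).resolve_right (CharP.char_ne_zero_of_finite K r)
  have : Fact r.Prime := ⟨hpr⟩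
  have : Fintype K := Fintype.ofFinite K
  obtain ⟨n, -, hn⟩ := FiniteField.card K r
  rw [← Nat.card_eq_fintype_card, hq] at hn
  obtain ⟨f, -, hf⟩ := (Nat.dvd_prime_pow hpr).1 (show q ∣ r ^ (n : ℕ) by rw [← hn]; exact dvd_pow_self q two_ne_zero)
  refine ⟨r, f, hpr, hr, hf, Nat.pos_of_ne_zero ?_⟩
  rintro rfl
  rw [pow_zero] at hf
  rw [hf, one_pow] at hq
  have := Finite.one_lt_card (α := K)
  omega

/-- nontrivial automorphisms: `0 < j < 2 f` -/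
theorem exists_j (hq : Nat.card K = q ^ 2) {r f : ℕ} [Fact r.Prime] [CharP K r] (hqr : q = r ^ f) (hf : 0 < f)
    (τ : K ≃+* K) (hτ : ∃ x, τ x ≠ x) : ∃ j, 0 < j ∧ j < 2 * f ∧ ∀ x, τ x = x ^ r ^ j := by
  obtain ⟨j, hj⟩ := exists_frob_pow (p := r) τ
  have hper : ∀ (m : ℕ) (x : K), x ^ r ^ (2 * f * m) = x := by
    intro m
    induction m with
    | zero => intro x; simp
    | succ m ih =>
      intro x
      have h1 : r ^ (2 * f * (m + 1)) = r ^ (2 * f * m) * Nat.card K := by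
        rw [hq, hqr, ← pow_mul, ← pow_add]; congr 1; ring
      rw [h1, pow_mul, ih]
      have : Fintype K := Fintype.ofFinite K
      rw [Nat.card_eq_fintype_card]
      exact FiniteField.pow_card x
  have h1 : ∀ x, τ x = x ^ r ^ (j % (2 * f)) := by
    intro x
    rw [hj]
    conv_lhs => rw [← Nat.div_add_mod j (2 * f), pow_add, pow_mul, hper]
  refine ⟨j % (2 * f), ?_, Nat.mod_lt _ (by omega), h1⟩
  by_contra h0
  obtain ⟨x, hx⟩ := hτ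
  apply hx
  rw [h1, show j % (2 * f) = 0 by omega, pow_zero, pow_one]

/-- **The construction** from the arithmetic. -/
theorem core (hq : Nat.card K = q ^ 2) {r f : ℕ} (hr : r.Prime) [CharP K r] (hqr : q = r ^ f) (hf : 0 < f) {k : ℕ}
    (hk : 2 ≤ k) (σ : K →+* K) (hσ : ∀ x, σ x = x ^ q) (D : Subgroup Kˣ) {L : Type} [Field L] [Finite L] [Algebra K L]
    (hL : Module.finrank K L = k)
    (h1 : ∀ i < k, 0 < i → ∃ x : Lˣ, Units.map (Algebra.norm K : L →* K) x ∈ (⊥ : Subgroup Kˣ) ∧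
      ¬ ((orderOf x : ℕ) : ℤ) ∣ ((q + 1 : ℕ) : ℤ) * (((q ^ 2 : ℕ) : ℤ) ^ i) - ((q + 1 : ℕ) : ℤ) * (r : ℤ) ^ 0)
    (h2 : ∀ i < k, ∃ x : Lˣ, Units.map (Algebra.norm K : L →* K) x ∈ (⊥ : Subgroup Kˣ) ∧
      ¬ ((orderOf x : ℕ) : ℤ) ∣ ((q + 1 : ℕ) : ℤ) * (((q ^ 2 : ℕ) : ℤ) ^ i) + ((q + 1 : ℕ) : ℤ) * (q * (r : ℤ) ^ 0))
    (h3 : ∀ i < k, ∀ j, 0 < j → j < 2 * f → ∃ x : Lˣ, Units.map (Algebra.norm K : L →* K) x ∈ D ∧
      ¬ ((orderOf x : ℕ) : ℤ) ∣ ((q + 1 : ℕ) : ℤ) * (((q ^ 2 : ℕ) : ℤ) ^ i) - ((q + 1 : ℕ) : ℤ) * (r : ℤ) ^ j)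
    (h4 : ∀ i < k, ∀ j, 0 < j → j < 2 * f → ∃ x : Lˣ, Units.map (Algebra.norm K : L →* K) x ∈ D ∧
      ¬ ((orderOf x : ℕ) : ℤ) ∣ ((q + 1 : ℕ) : ℤ) * (((q ^ 2 : ℕ) : ℤ) ^ i) + ((q + 1 : ℕ) : ℤ) * (q * (r : ℤ) ^ j)) :
    ∃ c : GL (Fin k) K → ℂ, CusG K k σ c ∧ ∀ τ : K ≃+* K, (∃ x, τ x ≠ x) → GenAt K k σ D τ c := by
  have : Fact r.Prime := ⟨hr⟩
  obtain ⟨φ, hφ⟩ := exists_theta L
  have hq0 : q ≠ 0 := by rw [hqr]; exact pow_ne_zero _ hr.ne_zero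
  have ha : q + 1 ≠ 0 := by omega
  have hcardK : ∀ i : ℕ, ((Nat.card K ^ i : ℕ) : ℤ) = ((q ^ 2 : ℕ) : ℤ) ^ i := by
    intro i
    rw [hq]
    push_cast
    rfl
  have hpow : ∀ j : ℕ, (q + 1) * r ^ j ≠ 0 := fun j => Nat.mul_ne_zero ha (pow_ne_zero j hr.ne_zero)
  have hpow' : ∀ j : ℕ, (q + 1) * (q * r ^ j) ≠ 0 := fun j =>
    Nat.mul_ne_zero ha (Nat.mul_ne_zero hq0 (pow_ne_zero j hr.ne_zero))
  have hσr : ∀ y, σ y = y ^ r ^ f := by intro y; rw [hσ, hqr]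
  have hfm : ∀ (x : Lˣ) (i j : ℕ), ¬ ((orderOf x : ℕ) : ℤ) ∣ ((q + 1 : ℕ) : ℤ) * (((q ^ 2 : ℕ) : ℤ) ^ i) -
      ((q + 1 : ℕ) : ℤ) * (r : ℤ) ^ j → powTheta φ ((q + 1) * r ^ j) (hpow j) x ≠
        powTheta φ (q + 1) ha ((x : L) ^ Nat.card K ^ i) := by
    intro x i j h
    refine pow_ne hφ x ha (hpow j) ?_
    rw [hcardK]
    push_cast at h ⊢
    exact h
  have hself : ∀ (x : Lˣ) (i : ℕ), ¬ ((orderOf x : ℕ) : ℤ) ∣ ((q + 1 : ℕ) : ℤ) * (((q ^ 2 : ℕ) : ℤ) ^ i) -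
      ((q + 1 : ℕ) : ℤ) * (r : ℤ) ^ 0 → powTheta φ (q + 1) ha x ≠
        powTheta φ (q + 1) ha ((x : L) ^ Nat.card K ^ i) := by
    intro x i h
    refine pow_ne hφ x ha ha ?_
    rw [hcardK]
    push_cast at h ⊢
    rw [pow_zero, mul_one] at h
    exact h
  have hdual : ∀ (x : Lˣ) (i j : ℕ), ¬ ((orderOf x : ℕ) : ℤ) ∣ ((q + 1 : ℕ) : ℤ) * (((q ^ 2 : ℕ) : ℤ) ^ i) +
      ((q + 1 : ℕ) : ℤ) * (q * (r : ℤ) ^ j) → conjTheta (powTheta φ ((q + 1) * (q * r ^ j)) (hpow' j)) x ≠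
        powTheta φ (q + 1) ha ((x : L) ^ Nat.card K ^ i) := by
    intro x i j h
    refine conj_ne hφ x ha (hpow' j) ?_
    rw [hcardK]
    push_cast at h ⊢
    exact h
  have hdualc : ∀ (j : ℕ) (b : ℕ) (hb : b ≠ 0), b = (q + 1) * r ^ j →
      dualc σ (psi (n := k) (F := K) L (powTheta φ b hb)) =
        psi L (conjTheta (powTheta φ ((q + 1) * (q * r ^ j)) (hpow' j))) := by
    intro j b hb hbj
    refine dualc_psi hL σ hσr _ _ fun y => ?_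
    rw [powTheta_apply, powTheta_apply, map_pow, ← pow_mul, hbj, ← hqr]
    congr 1
    ring
  have hR : Regular K k (powTheta φ (q + 1) ha) := by
    intro i hi hik
    obtain ⟨x, -, hx⟩ := h1 i hik hi
    exact ⟨x, hself x i hx⟩
  refine ⟨psi L (powTheta φ (q + 1) ha), ⟨psi_isIrr _ hL hR, psi_isCusp L _, ?_, ?_, ?_, ?_, ?_⟩, ?_⟩
  · intro h
    have h0 : dualc σ (psi (n := k) (F := K) L (powTheta φ (q + 1) ha)) = psi L (powTheta φ (q + 1) ha) := h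
    rw [hdualc 0 (q + 1) ha (by rw [pow_zero, mul_one])] at h0
    have h1 : ∀ g : ((Fin k → K) →ₗ[K] (Fin k → K))ˣ, cusp L (powTheta φ (q + 1) ha) (g : (Fin k → K) →ₗ[K] (Fin k → K)) =
        cusp L (conjTheta (powTheta φ ((q + 1) * (q * r ^ 0)) (hpow' 0))) (g : (Fin k → K) →ₗ[K] (Fin k → K)) := by
      intro g
      let A : GL (Fin k) K := Matrix.GeneralLinearGroup.toLin.symm g
      have h5 : Matrix.GeneralLinearGroup.toLin A = g := MulEquiv.apply_symm_apply _ g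
      have h2 := congrFun h0 A
      rw [← h5]
      exact h2.symm
    obtain ⟨i, hi, h3⟩ := (cusp_eq_iff (V := Fin k → K) (powTheta φ (q + 1) ha) _
      (by rw [Module.finrank_fin_fun, hL]) (by rw [hL]; exact hR)).1 h1
    rw [hL] at hi
    obtain ⟨x, -, hx⟩ := h2 i hi
    exact hdual x i 0 hx (h3 x)
  · rw [psi_one L _ (by omega), degP_eq_Ico]
  · refine dirr hL (by omega) ⊥ _ (psi_isIrr _ hL hR) fun i hi hi0 => ?_
    obtain ⟨x, hxD, hx⟩ := h1 i hi hi0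
    exact ⟨x, hxD, hself x i hx⟩
  · intro _
    rw [hdualc 0 (q + 1) ha (by rw [pow_zero, mul_one])]
    refine dorth hL ⊥ _ _ fun i hi => ?_
    obtain ⟨x, hxD, hx⟩ := h2 i hi
    exact ⟨x, hxD, hdual x i 0 hx⟩
  · refine ⟨Units.map ((φ.comp (algebraMap K L).toMonoidWithZeroHom : K →*₀ ℂ) : K →* ℂ), fun z A => ?_⟩
    rw [psi_scalar _ hL]
    congr 1
    rw [powTheta_apply, ← map_pow, ← map_pow]
    show φ (algebraMap K L ((z : K) ^ (q + 1))) = φ (algebraMap K L ((z : K) * σ (z : K)))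
    rw [hσ, pow_succ']
  · intro τ hτ
    obtain ⟨j, hj0, hj, hτj⟩ := exists_j hq hqr hf τ hτ
    have hf1 : fmap (τ : K →+* K) (psi (n := k) (F := K) L (powTheta φ (q + 1) ha)) =
        psi L (powTheta φ ((q + 1) * r ^ j) (hpow j)) := by
      refine fmap_psi hL (τ : K →+* K) hτj _ _ fun y => ?_
      rw [powTheta_apply, powTheta_apply, map_pow, ← pow_mul]
      congr 1
      ring
    refine ⟨?_, ?_⟩
    · rw [hf1]
      refine dorth hL D _ _ fun i hi => ?_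
      obtain ⟨x, hxD, hx⟩ := h3 i hi j hj0 hj
      exact ⟨x, hxD, hfm x i j hx⟩
    · rw [hf1, hdualc j _ (hpow j) rfl]
      refine dorth hL D _ _ fun i hi => ?_
      obtain ⟨x, hxD, hx⟩ := h4 i hi j hj0 hj
      exact ⟨x, hxD, hdual x i j hx⟩

theorem exists_M (hq : Nat.card K = q ^ 2) (k : ℕ) : ∃ M, M * (Nat.card K - 1) = Nat.card K ^ k - 1 ∧
    (M : ℤ) * ((q : ℤ) ^ 2 - 1) = (q : ℤ) ^ (2 * k) - 1 := by
  have hQ1 : 1 ≤ Nat.card K := Nat.card_pos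
  obtain ⟨M, hM⟩ : ∃ M, M * (Nat.card K - 1) = Nat.card K ^ k - 1 := by
    obtain ⟨c, hc⟩ := Nat.sub_dvd_pow_sub_pow (Nat.card K) 1 k
    rw [one_pow] at hc
    exact ⟨c, by rw [mul_comm, ← hc]⟩
  refine ⟨M, hM, ?_⟩
  have h1 : 1 ≤ Nat.card K ^ k := Nat.one_le_pow _ _ hQ1
  have h2 : ((M * (Nat.card K - 1) : ℕ) : ℤ) = ((Nat.card K ^ k - 1 : ℕ) : ℤ) := by rw [hM]
  rw [Nat.cast_mul, Nat.cast_sub hQ1, Nat.cast_sub h1, hq] at h2
  push_cast at h2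
  rw [← pow_mul] at h2
  exact h2

/-- **Hermitian case**, `k ≥ 3` -/
theorem exists_cusG_herm (hq : Nat.card K = q ^ 2) (h3 : 3 ≤ q) (k : ℕ)
    (hk : 3 ≤ k) (σ : K →+* K) (hσ : ∀ x, σ x = x ^ q) :
    ∃ c : GL (Fin k) K → ℂ, CusG K k σ c ∧ ∀ τ : K ≃+* K, (∃ x, τ x ≠ x) → GenAt K k σ ⊥ τ c := by
  obtain ⟨r, f, hr, hch, hqr, hf⟩ := exists_rf hq
  obtain ⟨L, _, _, _, hL⟩ := exists_L K k (by omega)
  obtain ⟨M, hM, hMz⟩ := exists_M hq k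
  obtain ⟨x, hx, hxD⟩ := exists_norm_one hL (by omega) (⊥ : Subgroup Kˣ) hM
  refine core hq hr hqr hf (by omega) σ hσ ⊥ hL (fun i hi hi0 => ⟨x, hxD, ?_⟩) (fun i hi => ⟨x, hxD, ?_⟩)
    (fun i hi j hj0 hj => ⟨x, hxD, ?_⟩) (fun i hi j hj0 hj => ⟨x, hxD, ?_⟩) <;> rw [hx]
  · exact gen hqr hr.two_le hf h3 hk hMz hi (by omega) (Or.inl hi0)
  · exact opp hqr hr.two_le hf h3 hk hMz hi (by omega)
  · exact gen hqr hr.two_le hf h3 hk hMz hi hj (Or.inr hj0)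
  · exact opp hqr hr.two_le hf h3 hk hMz hi hj

/-- **Hermitian case**, `k = 2`, `q ≥ 4` -/
theorem exists_cusG_herm_two (hq : Nat.card K = q ^ 2) (h4 : 4 ≤ q)
    (σ : K →+* K) (hσ : ∀ x, σ x = x ^ q) (D : Subgroup Kˣ) (hD : ∀ z : Kˣ, z ^ (q - 1) = 1 → z ∈ D) :
    ∃ c : GL (Fin 2) K → ℂ, CusG K 2 σ c ∧ ∀ τ : K ≃+* K, (∃ x, τ x ≠ x) → GenAt K 2 σ D τ c := by
  obtain ⟨r, f, hr, hch, hqr, hf⟩ := exists_rf hq
  obtain ⟨L, _, _, _, hL⟩ := exists_L K 2 (by omega)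
  have h1q : 1 ≤ q := by omega
  have h2q : 1 ≤ q ^ 2 := Nat.one_le_pow _ _ h1q
  have hM : (q ^ 2 + 1) * (Nat.card K - 1) = Nat.card K ^ 2 - 1 := by
    rw [hq]
    zify [h2q, Nat.one_le_pow 2 (q ^ 2) h2q]
    ring
  have hN : ((q - 1) * (q ^ 2 + 1)) * (q + 1) = Nat.card K ^ 2 - 1 := by
    rw [hq]
    zify [h1q, h2q, Nat.one_le_pow 2 (q ^ 2) h2q]
    ring
  obtain ⟨x, hx, hxD⟩ := exists_norm_one hL (by omega) (⊥ : Subgroup Kˣ) hM
  obtain ⟨y, g, hy, rfl⟩ := exists_elt hL hN (by omega)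
  have hyD : Units.map (Algebra.norm K : L →* K) (g ^ (q + 1)) ∈ D := by
    apply hD
    rw [map_pow, ← pow_mul]
    have h5 : (q + 1) * (q - 1) = Nat.card Kˣ := by
      rw [Nat.card_units, hq]
      zify [h1q, h2q]
      ring
    rw [h5, pow_card_eq_one']
  have hxD' : Units.map (Algebra.norm K : L →* K) x ∈ D := by
    rw [Subgroup.mem_bot.1 hxD]
    exact one_mem D
  have hMz : ((q ^ 2 + 1 : ℕ) : ℤ) = (q : ℤ) ^ 2 + 1 := by push_cast; rfl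
  have hNz : (((q - 1) * (q ^ 2 + 1) : ℕ) : ℤ) = ((q : ℤ) - 1) * ((q : ℤ) ^ 2 + 1) := by
    rw [Nat.cast_mul, Nat.cast_sub h1q, hMz]
    push_cast
    rfl
  refine core hq hr hqr hf le_rfl σ hσ D hL (fun i hi hi0 => ⟨x, hxD, ?_⟩) (fun i hi => ⟨x, hxD, ?_⟩)
    (fun i hi j hj0 hj => ⟨x, hxD', ?_⟩) (fun i hi j hj0 hj => ?_)
  · rw [hx, hMz]
    have h5 : i = 1 := by omega
    subst h5
    exact self_two h4
  · rw [hx, hMz]
    exact opp_two hqr hr.two_le hf h4 hi (by omega) hf.ne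
  · rw [hx, hMz]
    exact gen_two hqr hr.two_le hf h4 hi hj hj0
  · by_cases hjf : j = f
    · subst hjf
      refine ⟨_, hyD, ?_⟩
      rw [hy, hNz]
      have h5 : (r : ℤ) ^ j = (q : ℤ) := by rw [hqr]; push_cast; rfl
      rw [h5]
      exact opp_two_f h4 hi
    · refine ⟨x, hxD', ?_⟩
      rw [hx, hMz]
      exact opp_two hqr hr.two_le hf h4 hi hj hjf

end herm

end Cfsg.Agent.H855.Ext
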